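/-
Sets of isotropic points meeting every totally isotropic line in one or all points and closed under
transvections of non-orthogonal pairs.

Main definitions: `Good P`, `IsoMap L` (isometric linear maps).
Main results: `Good.comap`, `Good.two_of_five`, `Emb.good_pat`.
-/
import Cfsg.Agent.Lib.FischerPolar.Emb

set_option autoImplicit false

namespace Cfsg.Agent.FischerPolar

open Cfsg Cfsg.Agent.ThreeTrans Cfsg.Agent.ThreeTransRank Cfsg.Agent.ThreeTransSU Cfsg.Agent.U62Cover

variable {m k : ℕ}

/-- A closed set of isotropic points meeting each line in one or all points. -/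
structure Good (P : (Fin m → K) → Prop) : Prop where
  smul : ∀ {b} {c : K}, Iso b → c ≠ 0 → (P (c • b) ↔ P b)
  tri : ∀ {u v}, Iso u → Iso v → hf v u ≠ 0 → P u → P v → P (rfl2 u v)
  one : ∀ {u w}, OrthPair u w → P w ∨ ∃ c : K, P (u + c • w)
  all : ∀ {u w}, OrthPair u w → P u → P w → ∀ c : K, P (u + c • w)

/-- An isometric linear map. -/
structure IsoMap (L : (Fin k → K) → (Fin m → K)) : Prop where
  add : ∀ x y, L (x + y) = L x + L y
  smul : ∀ (c : K) x, L (c • x) = c • L x
  form : ∀ x y, hf (L x) (L y) = hf x y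

namespace IsoMap

variable {L : (Fin k → K) → (Fin m → K)} (hL : IsoMap L)
include hL

theorem map_zero : L 0 = 0 := by
  have := hL.smul 0 0
  rwa [zero_smul, zero_smul] at this

theorem eq_zero {x : Fin k → K} (h : L x = 0) : x = 0 := by
  funext i
  have h1 : hf (L x) (L (Pi.single i 1)) = 0 := by rw [h, zl]
  rw [hL.form] at h1
  change ∑ j, x j * (Pi.single i (1 : K) : Fin k → K) j ^ 2 = 0 at h1
  rw [Finset.sum_eq_single i (fun j _ hj => by simp [hj]) (fun hn => absurd (Finset.mem_univ _) hn),
    Pi.single_eq_same, one_pow, mul_one] at h1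
  exact h1

theorem iso {x : Fin k → K} (hx : Iso x) : Iso (L x) :=
  ⟨fun h => hx.1 (hL.eq_zero h), by rw [hL.form, hx.2]⟩

theorem orth {u w : Fin k → K} (h : OrthPair u w) : OrthPair (L u) (L w) := by
  refine ⟨hL.iso h.1, hL.iso h.2.1, by rw [hL.form, h.2.2.1], fun c hc => h.2.2.2 c ?_⟩
  rw [v_eq_iff]
  refine hL.eq_zero ?_
  rw [hL.add, hL.smul, hc, v_add_self]

theorem map_rfl2 (u v : Fin k → K) : L (rfl2 u v) = rfl2 (L u) (L v) := by
  rw [rfl2, rfl2, hL.add, hL.smul, hL.form]

end IsoMap

theorem Good.comap {P : (Fin m → K) → Prop} (h : Good P) {L : (Fin k → K) → (Fin m → K)}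
    (hL : IsoMap L) : Good fun x => P (L x) where
  smul hb hc := by rw [hL.smul]; exact h.smul (hL.iso hb) hc
  tri hu hv hn pu pv := by
    rw [hL.map_rfl2]
    exact h.tri (hL.iso hu) (hL.iso hv) (by rwa [hL.form]) pu pv
  one {u w} huw := by
    rcases h.one (hL.orth huw) with h1 | ⟨c, h1⟩
    · exact Or.inl h1
    · exact Or.inr ⟨c, by rwa [hL.add, hL.smul]⟩
  all {u w} huw pu pw c := by
    rw [hL.add, hL.smul]; exact h.all (hL.orth huw) pu pw c

/-- Two points of a line in the set give the whole line. -/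
theorem Good.two_of_five {P : (Fin m → K) → Prop} (h : Good P) {u w : Fin m → K}
    (huw : OrthPair u w) {c d : K} (hcd : c ≠ d) (hc : P (u + c • w)) (hd : P (u + d • w)) : P w := by
  have hne : c + d ≠ 0 := fun e => hcd (by
    calc c = c + d + d := by rw [add_assoc, k_add_self, add_zero]
      _ = d := by rw [e, zero_add])
  have h1 : OrthPair (u + c • w) w := ((huw.symm cardK).shift cardK c).symm cardK
  have h2 : OrthPair (u + c • w) (u + d • w) := by
    have e : u + d • w = (c + d) • w + (1 : K) • (u + c • w) := by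
      rw [one_smul, add_smul,
        show c • w + d • w + (u + c • w) = u + d • w + (c • w + c • w) by abel, v_add_self, add_zero]
    rw [e]
    exact (h1.smul_right cardK hne).shift cardK 1
  have h3 := h.all h2 hc hd 1
  rw [one_smul, show u + c • w + (u + d • w) = (c • w + d • w) + (u + u) by abel, v_add_self,
    add_zero, ← add_smul, h.smul huw.2.1 hne] at h3
  exact h3

/-! ### The pattern of a member is a good set -/

variable {G : Type*} [Group G] {D : Set G} {ψ : (Fin m → K) → G}

theorem Emb.ne_of_sep (hD : IsThreeTranspositionSet D) (E : Emb D m ψ) {x y : Fin m → K}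
    (hx : Iso x) (hy : Iso y) (h : ∀ c : K, y ≠ c • x) : ψ x ≠ ψ y :=
  (E.pat_self hD hx).ne E.four (E.pat_self hD hy) h

theorem Emb.line_cases [Finite G] (P : Polar D 5) (E : Emb D m ψ) {u w : Fin m → K}
    (h : OrthPair u w) {p : G} (hp : p ∈ FischerPolar.line D (ψ u) (ψ w)) :
    p = ψ w ∨ ∃ c : K, p = ψ (u + c • w) := by
  classical
  have hD := P.set
  have hi : ∀ c : K, Iso (u + c • w) := fun c => ((h.symm cardK).shift cardK c).2.1
  have hw : ∀ c : K, ψ (u + c • w) ≠ ψ w := fun c =>
    (E.ne_of_sep hD h.2.1 (hi c) fun d hd => by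
      refine h.symm cardK |>.2.2.2 (d + c) ?_
      rw [add_smul, ← hd, v_cancel]).symm
  have hne : Function.Injective fun c : K => ψ (u + c • w) := fun c d hcd => by
    by_contra hne
    refine E.ne_of_sep hD (hi c) (hi d) (fun e he => ?_) hcd
    have key : ∀ e c d : K, c ≠ d → e = 1 → e * c + d ≠ 0 := by decide +kernel
    by_cases h1 : e = 1
    · subst h1
      rw [one_smul, add_right_inj] at he
      have h0 : (d + c) • w = 0 := by rw [add_smul, he, v_add_self]
      rcases smul_eq_zero.1 h0 with h0 | h0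
      · exact key 1 c d hne rfl (by rw [one_mul, add_comm, h0])
      · exact h.2.1.1 h0
    · have h2 : u + e • u = (e * c + d) • w := by
        rw [add_smul, mul_smul, v_eq_iff]
        rw [v_eq_iff, smul_add] at he
        rw [← he]; abel
      have h1' : (1 + e) ≠ 0 := fun e0 => h1 (by
        calc e = 1 + (1 + e) := by rw [← add_assoc, k_add_self, zero_add]
          _ = 1 := by rw [e0, add_zero])
      have h3 : u = ((1 + e)⁻¹ * (e * c + d)) • w := by
        rw [mul_smul, ← h2, smul_add, smul_smul, ← add_smul]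
        nth_rw 1 [show (1 + e)⁻¹ = (1 + e)⁻¹ * 1 from (mul_one _).symm]
        rw [← mul_add, inv_mul_cancel₀ h1', one_smul]
      exact (h.symm cardK).2.2.2 _ h3
  let S : Finset G := insert (ψ w) (Finset.univ.image fun c : K => ψ (u + c • w))
  have hS : S.card = 5 := by
    rw [Finset.card_insert_of_notMem, Finset.card_image_of_injective _ hne, Finset.card_univ, cardK]
    simp only [Finset.mem_image, Finset.mem_univ, true_and, not_exists]
    exact fun c hc => hw c hc
  have hsub : (S : Set G) ⊆ FischerPolar.line D (ψ u) (ψ w) := by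
    intro x hx
    rcases Finset.mem_insert.1 (Finset.mem_coe.1 hx) with rfl | hx
    · exact right_mem (E.mem h.2.1)
    · obtain ⟨c, -, rfl⟩ := Finset.mem_image.1 hx
      exact E.line h c
  have heq := Set.eq_of_subset_of_ncard_le hsub (by
    rw [P.card (E.mem h.1) (E.mem h.2.1) (E.ne_of_sep hD h.1 h.2.1 h.2.2.2)
      (E.comm h.1 h.2.1 (z_symm h.2.2.1)), Set.ncard_coe_finset, hS]) (Set.toFinite _)
  rw [← heq] at hp
  rcases Finset.mem_insert.1 (Finset.mem_coe.1 hp) with rfl | hp
  · exact Or.inl rfl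
  · obtain ⟨c, -, rfl⟩ := Finset.mem_image.1 hp
    exact Or.inr ⟨c, rfl⟩

theorem Emb.good_pat [Finite G] (P : Polar D 5) (E : Emb D m ψ) {e : G} (he : e ∈ D) :
    Good fun b => Commute e (ψ b) where
  smul hb hc := by rw [E.smul hb hc]
  tri hu hv _ pu pv := by
    rw [← E.conj P.set hu hv]
    exact (pu.mul_right pv).mul_right pu
  one {u w} h := by
    have hne := E.ne_of_sep P.set h.1 h.2.1 h.2.2.2
    obtain ⟨p, hp, hc⟩ := P.hit (E.mem h.1) (E.mem h.2.1) hne (E.comm h.1 h.2.1 (z_symm h.2.2.1)) he
    rcases E.line_cases P h hp with rfl | ⟨c, rfl⟩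
    · exact Or.inl hc
    · exact Or.inr ⟨c, hc⟩
  all {u w} h pu pw c := (E.line h c).2 e he pu pw

end Cfsg.Agent.FischerPolar
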