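/-
The closed sets of the 45-point unitary quadrangle, by exhaustive search.

Main results: `good_four` : a good set in four dimensions is the perpendicular of a vector.
-/
import Cfsg.Agent.Lib.FischerPolar.Pattern.Good

set_option autoImplicit false

namespace Cfsg.Agent.FischerPolar.Cert

open Cfsg Cfsg.Agent.ThreeTransSU

/-- A triangle of indices. -/
abbrev Tri : Type := ℕ × ℕ × ℕ
/-- A line of indices. -/
abbrev Lin : Type := ℕ × ℕ × ℕ × ℕ × ℕ

/-- The 45 isotropic points of the four-dimensional space, in search order. -/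
def pts : List (Fin 4 → K) :=
  [![.z, .z, .o, .o],
   ![.z, .z, .o, .w],
   ![.z, .z, .o, .w2],
   ![.z, .o, .z, .o],
   ![.z, .o, .o, .z],
   ![.z, .o, .z, .w],
   ![.z, .o, .z, .w2],
   ![.z, .o, .w, .z],
   ![.z, .o, .w2, .z],
   ![.o, .z, .z, .o],
   ![.o, .z, .o, .z],
   ![.o, .o, .z, .z],
   ![.o, .z, .z, .w],
   ![.o, .z, .z, .w2],
   ![.o, .z, .w, .z],
   ![.o, .z, .w2, .z],
   ![.o, .w, .z, .z],
   ![.o, .w2, .z, .z],
   ![.o, .o, .o, .o],
   ![.o, .o, .w, .w2],
   ![.o, .o, .w2, .w],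
   ![.o, .w, .o, .o],
   ![.o, .w, .w, .w2],
   ![.o, .w, .w2, .w],
   ![.o, .w2, .o, .o],
   ![.o, .w2, .w, .w2],
   ![.o, .w2, .w2, .w],
   ![.o, .o, .o, .w],
   ![.o, .o, .o, .w2],
   ![.o, .o, .w, .o],
   ![.o, .o, .w, .w],
   ![.o, .o, .w2, .o],
   ![.o, .o, .w2, .w2],
   ![.o, .w, .o, .w],
   ![.o, .w, .o, .w2],
   ![.o, .w, .w, .o],
   ![.o, .w, .w, .w],
   ![.o, .w, .w2, .o],
   ![.o, .w, .w2, .w2],
   ![.o, .w2, .o, .w],
   ![.o, .w2, .o, .w2],
   ![.o, .w2, .w, .o],
   ![.o, .w2, .w, .w],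
   ![.o, .w2, .w2, .o],
   ![.o, .w2, .w2, .w2]]

/-- One vector in each point, and the zero vector. -/
def cands : List (Fin 4 → K) :=
  [![.z, .z, .z, .z],
   ![.z, .z, .z, .o],
   ![.z, .z, .o, .z],
   ![.z, .z, .o, .o],
   ![.z, .z, .o, .w],
   ![.z, .z, .o, .w2],
   ![.z, .o, .z, .z],
   ![.z, .o, .z, .o],
   ![.z, .o, .z, .w],
   ![.z, .o, .z, .w2],
   ![.z, .o, .o, .z],
   ![.z, .o, .o, .o],
   ![.z, .o, .o, .w],
   ![.z, .o, .o, .w2],
   ![.z, .o, .w, .z],
   ![.z, .o, .w, .o],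
   ![.z, .o, .w, .w],
   ![.z, .o, .w, .w2],
   ![.z, .o, .w2, .z],
   ![.z, .o, .w2, .o],
   ![.z, .o, .w2, .w],
   ![.z, .o, .w2, .w2],
   ![.o, .z, .z, .z],
   ![.o, .z, .z, .o],
   ![.o, .z, .z, .w],
   ![.o, .z, .z, .w2],
   ![.o, .z, .o, .z],
   ![.o, .z, .o, .o],
   ![.o, .z, .o, .w],
   ![.o, .z, .o, .w2],
   ![.o, .z, .w, .z],
   ![.o, .z, .w, .o],
   ![.o, .z, .w, .w],
   ![.o, .z, .w, .w2],
   ![.o, .z, .w2, .z],
   ![.o, .z, .w2, .o],
   ![.o, .z, .w2, .w],
   ![.o, .z, .w2, .w2],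
   ![.o, .o, .z, .z],
   ![.o, .o, .z, .o],
   ![.o, .o, .z, .w],
   ![.o, .o, .z, .w2],
   ![.o, .o, .o, .z],
   ![.o, .o, .o, .o],
   ![.o, .o, .o, .w],
   ![.o, .o, .o, .w2],
   ![.o, .o, .w, .z],
   ![.o, .o, .w, .o],
   ![.o, .o, .w, .w],
   ![.o, .o, .w, .w2],
   ![.o, .o, .w2, .z],
   ![.o, .o, .w2, .o],
   ![.o, .o, .w2, .w],
   ![.o, .o, .w2, .w2],
   ![.o, .w, .z, .z],
   ![.o, .w, .z, .o],
   ![.o, .w, .z, .w],
   ![.o, .w, .z, .w2],
   ![.o, .w, .o, .z],
   ![.o, .w, .o, .o],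
   ![.o, .w, .o, .w],
   ![.o, .w, .o, .w2],
   ![.o, .w, .w, .z],
   ![.o, .w, .w, .o],
   ![.o, .w, .w, .w],
   ![.o, .w, .w, .w2],
   ![.o, .w, .w2, .z],
   ![.o, .w, .w2, .o],
   ![.o, .w, .w2, .w],
   ![.o, .w, .w2, .w2],
   ![.o, .w2, .z, .z],
   ![.o, .w2, .z, .o],
   ![.o, .w2, .z, .w],
   ![.o, .w2, .z, .w2],
   ![.o, .w2, .o, .z],
   ![.o, .w2, .o, .o],
   ![.o, .w2, .o, .w],
   ![.o, .w2, .o, .w2],
   ![.o, .w2, .w, .z],
   ![.o, .w2, .w, .o],
   ![.o, .w2, .w, .w],
   ![.o, .w2, .w, .w2],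
   ![.o, .w2, .w2, .z],
   ![.o, .w2, .w2, .o],
   ![.o, .w2, .w2, .w],
   ![.o, .w2, .w2, .w2]]

/-- The triangles and lines, by their last point. -/
def levels : List (List Tri × List Lin) :=
  [([], []),
   ([], []),
   ([(0, 1, 2)], []),
   ([], []),
   ([(0, 3, 4)], []),
   ([(1, 4, 5)], []),
   ([(3, 5, 6), (2, 4, 6)], []),
   ([(1, 6, 7), (2, 3, 7), (0, 5, 7)], []),
   ([(2, 5, 8), (4, 7, 8), (0, 6, 8), (1, 3, 8)], []),
   ([], []),
   ([(0, 9, 10)], []),
   ([(4, 10, 11), (3, 9, 11)], []),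
   ([(1, 10, 12), (5, 11, 12)], []),
   ([(2, 10, 13), (9, 12, 13), (6, 11, 13)], []),
   ([(7, 11, 14), (2, 9, 14), (1, 13, 14), (0, 12, 14)], []),
   ([(8, 11, 15), (0, 13, 15), (1, 9, 15), (2, 12, 15), (10, 14, 15)], []),
   ([(3, 12, 16), (8, 10, 16), (5, 13, 16), (6, 9, 16), (4, 14, 16), (7, 15, 16)], []),
   ([(11, 16, 17), (5, 9, 17), (4, 15, 17), (7, 10, 17), (6, 12, 17), (3, 13, 17), (8, 14, 17)], []),
   ([], []),
   ([(2, 18, 19)], []),
   ([(1, 18, 20), (0, 19, 20)], []),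
   ([(13, 20, 21), (15, 19, 21)], []),
   ([(2, 21, 22), (10, 20, 22), (12, 18, 22)], []),
   ([(9, 19, 23), (14, 18, 23), (0, 22, 23), (1, 21, 23)], []),
   ([(12, 19, 24), (13, 23, 24), (15, 22, 24), (14, 20, 24), (18, 21, 24)], []),
   ([(19, 22, 25), (12, 21, 25), (2, 24, 25), (10, 23, 25), (15, 18, 25), (9, 20, 25)], []),
   ([(10, 19, 26), (13, 18, 26), (20, 23, 26), (0, 25, 26), (9, 22, 26), (14, 21, 26), (1, 24, 26)], []),
   ([(8, 23, 27), (3, 21, 27), (16, 25, 27)], []),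
   ([(7, 25, 28), (18, 27, 28), (3, 24, 28), (17, 23, 28)], []),
   ([(16, 26, 29), (0, 27, 29), (6, 22, 29), (4, 21, 29)], [(11, 2, 28, 20, 29)]),
   ([(1, 28, 30), (20, 27, 30), (6, 25, 30), (19, 29, 30), (17, 21, 30), (8, 26, 30)], []),
   ([(17, 22, 31), (0, 28, 31), (18, 29, 31), (2, 30, 31), (5, 26, 31), (4, 24, 31)], [(11, 1, 27, 31, 19)]),
   ([(20, 31, 32), (1, 29, 32), (19, 28, 32), (5, 23, 32), (2, 27, 32), (16, 24, 32), (7, 22, 32)], [(11, 0, 18, 32, 30)]),
   ([(7, 26, 33), (15, 29, 33), (6, 24, 33), (4, 30, 33), (17, 19, 33), (5, 28, 33), (25, 31, 33), (9, 32, 33)], []),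
   ([(17, 29, 34), (12, 31, 34), (11, 26, 34), (6, 18, 34), (4, 19, 34), (21, 33, 34), (15, 30, 34)], [(13, 8, 32, 25, 34), (10, 5, 27, 24, 34)]),
   ([(17, 20, 35), (8, 24, 35), (26, 28, 35), (5, 25, 35), (13, 27, 35), (3, 30, 35), (7, 31, 35), (10, 32, 35), (0, 33, 35)], [(16, 2, 34, 23, 35)]),
   ([(17, 32, 36), (23, 33, 36), (11, 24, 36), (22, 35, 36), (7, 20, 36), (5, 19, 36), (10, 31, 36), (1, 34, 36), (9, 28, 36)], [(12, 4, 27, 26, 36), (14, 3, 29, 25, 36)]),
   ([(2, 36, 37), (8, 18, 37), (17, 27, 37), (21, 35, 37), (0, 34, 37), (14, 28, 37), (13, 30, 37), (3, 20, 37), (11, 25, 37)], [(15, 6, 32, 26, 37), (16, 1, 33, 37, 22), (9, 7, 29, 24, 37)]),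
   ([(8, 28, 38), (23, 37, 38), (4, 25, 38), (22, 34, 38), (2, 33, 38), (6, 31, 38), (24, 30, 38), (3, 26, 38), (17, 18, 38), (1, 35, 38), (14, 27, 38), (12, 29, 38)], [(16, 0, 21, 38, 36)]),
   ([(16, 31, 39), (4, 20, 39), (8, 36, 39), (9, 38, 39), (19, 37, 39), (5, 18, 39), (3, 34, 39), (11, 22, 39), (27, 33, 39), (15, 35, 39), (14, 32, 39), (13, 29, 39)], [(10, 6, 28, 39, 21), (12, 7, 30, 39, 23)]),
   ([(16, 20, 40), (12, 37, 40), (6, 27, 40), (9, 30, 40), (28, 34, 40), (23, 29, 40), (8, 22, 40), (14, 31, 40), (11, 35, 40), (15, 36, 40), (24, 39, 40), (4, 32, 40), (5, 21, 40)], [(10, 3, 18, 40, 33), (13, 7, 19, 40, 38)]),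
   ([(4, 37, 41), (13, 33, 41), (12, 32, 41), (15, 27, 41), (10, 38, 41), (6, 36, 41), (3, 19, 41), (20, 34, 41), (7, 18, 41), (29, 35, 41), (0, 39, 41), (16, 28, 41), (11, 23, 41)], [(14, 5, 30, 41, 22), (9, 8, 31, 41, 21), (17, 2, 40, 26, 41)]),
   ([(25, 41, 42), (30, 36, 42), (5, 29, 42), (3, 22, 42), (11, 38, 42), (15, 28, 42), (7, 27, 42), (16, 18, 42), (9, 34, 42), (1, 40, 42), (13, 31, 42), (26, 39, 42), (10, 37, 42), (21, 32, 42), (4, 23, 42)], [(12, 8, 20, 42, 33), (14, 6, 19, 42, 35)]),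
   ([(24, 41, 43), (0, 40, 43), (2, 42, 43), (6, 23, 43), (16, 19, 43), (8, 29, 43), (31, 37, 43), (12, 28, 43), (7, 21, 43), (3, 32, 43), (13, 36, 43), (11, 33, 43), (14, 34, 43), (22, 27, 43), (10, 30, 43)], [(9, 4, 18, 43, 35), (15, 5, 20, 43, 38), (17, 1, 39, 43, 25)]),
   ([(5, 37, 44), (8, 19, 44), (9, 27, 44), (32, 38, 44), (6, 20, 44), (26, 43, 44), (2, 39, 44), (7, 34, 44), (1, 41, 44), (25, 40, 44), (10, 29, 44), (12, 35, 44), (11, 21, 44), (18, 36, 44), (14, 33, 44), (16, 30, 44)], [(15, 3, 31, 44, 23), (13, 4, 28, 44, 22), (17, 0, 24, 44, 42)])]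

/-- The perpendiculars of the candidates, as masks. -/
def perps : List Nat :=
  [35184372088831,
   249232,
   211560,
   22339217983489,
   9494197897218,
   3350956541956,
   62983,
   18771733693448,
   11288404083744,
   5124234200128,
   26491832513040,
   2903399464985,
   5502400462898,
   286739398740,
   2063220617856,
   13198575009932,
   45466255521,
   19877109956802,
   6629318734592,
   310663708938,
   18348101075236,
   9896288321857,
   511,
   11169618461584,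
   5026396246416,
   18988357132688,
   1675459036264,
   114820609,
   20105278788610,
   13403519198212,
   6701797884008,
   18429838901764,
   10052639412225,
   95707138,
   26807114956904,
   5584799695362,
   57446404,
   2792399872001,
   8457553927,
   5239931406856,
   18863532021792,
   11072450865216,
   7009428573200,
   9943923297817,
   88265464882,
   18142754516052,
   26414118094976,
   207015135884,
   2754160646305,
   5809078036674,
   1752367663360,
   19793502046986,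
   13478413768996,
   160088500545,
   541180624903,
   18692940300864,
   10999697051656,
   4950554124320,
   26389957379328,
   3094794536769,
   5643592602890,
   56027587876,
   1655727800336,
   13245688398420,
   344371318809,
   19938584649778,
   6597506334848,
   150948905666,
   18196711182476,
   10239205810337,
   34634733846535,
   81881858592,
   294746722368,
   173009936392,
   109527041152,
   22145539376801,
   9347235189954,
   3582070760588,
   412728312064,
   3301829657380,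
   22033200730433,
   9436613730570,
   27383201808,
   9655121510962,
   3509189775444,
   21992678006809]

/-- The point with a given index. -/
def pt (i : ℕ) : Fin 4 → K := pts.getD i 0

/-- Number of members of a list in a mask. -/
def cnt (m : ℕ) (l : List ℕ) : ℕ := (l.filter fun i => m.testBit i).length

/-- The test of a mask at one level. -/
def okLev (m : ℕ) (L : List Tri × List Lin) : Bool :=
  (L.1.all fun (a, b, c) => cnt m [a, b, c] != 2) &&
    L.2.all fun (w, a, b, c, d) => cnt m [w, a, b, c, d] == 1 || cnt m [w, a, b, c, d] == 5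

/-- The search. -/
def go : List (List Tri × List Lin) → ℕ → ℕ → List ℕ
  | [], _, m => [m]
  | L :: rest, n, m =>
    (if okLev m L then go rest (n + 1) m else []) ++
      (if okLev (m ||| 2 ^ n) L then go rest (n + 1) (m ||| 2 ^ n) else [])

/-- The mask of a set. -/
def maskOf (S : ℕ → Bool) : ℕ → ℕ
  | 0 => 0
  | n + 1 => bif S n then maskOf S n ||| 2 ^ n else maskOf S n

theorem testBit_maskOf (S : ℕ → Bool) :
    ∀ n j, (maskOf S n).testBit j = (decide (j < n) && S j) := by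
  intro n
  induction n with
  | zero => intro j; simp [maskOf]
  | succ n ih =>
    intro j
    rw [maskOf]
    rcases Nat.lt_trichotomy j n with h | rfl | h
    · cases hS : S n <;> simp [ih, h, Nat.lt_succ_of_lt h, (Nat.ne_of_lt h).symm]
    · cases hS : S j <;> simp [ih, hS]
    · cases hS : S n <;>
        simp [ih, Nat.not_lt.2 (Nat.le_of_lt h), Nat.not_lt.2 (Nat.succ_le_of_lt h), Nat.ne_of_lt h]

/-- A set passing every test appears among the results of the search. -/
theorem mem_go (S : ℕ → Bool) :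
    ∀ (Ls : List (List Tri × List Lin)) (n : ℕ),
      (∀ i (h : i < Ls.length), okLev (maskOf S (n + i + 1)) Ls[i] = true) →
      maskOf S (n + Ls.length) ∈ go Ls n (maskOf S n) := by
  intro Ls
  induction Ls with
  | nil => intro n _; simp [go]
  | cons L rest ih =>
    intro n h
    have h0 := h 0 (by simp)
    have h1 := ih (n + 1) fun i hi => by
      have := h (i + 1) (by simp; omega)
      rw [show n + 1 + i + 1 = n + (i + 1) + 1 by omega]
      simpa using this
    rw [show n + (L :: rest).length = n + 1 + rest.length by simp; omega, go, List.mem_append]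
    simp only [Nat.add_zero, List.getElem_cons_zero] at h0
    have e : maskOf S (n + 1) = bif S n then maskOf S n ||| 2 ^ n else maskOf S n := rfl
    cases hS : S n
    · rw [hS, cond_false] at e
      rw [e] at h0 h1
      exact Or.inl (by rw [if_pos h0]; exact h1)
    · rw [hS, cond_true] at e
      rw [e] at h0 h1
      exact Or.inr (by rw [if_pos h0]; exact h1)

/-- A transvection relation between three points. -/
def TriOK (a b c : ℕ) : Prop :=
  hf (pt a) (pt a) = 0 ∧ hf (pt b) (pt b) = 0 ∧ pt a ≠ 0 ∧ pt b ≠ 0 ∧ hf (pt b) (pt a) ≠ 0 ∧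
    ∃ κ : K, κ ≠ 0 ∧ rfl2 (pt a) (pt b) = κ • pt c

/-- A collinearity relation. -/
def PointOK (u w x : ℕ) (c : K) : Prop := ∃ κ : K, κ ≠ 0 ∧ pt x = κ • (pt u + c • pt w)

/-- A line of five points. -/
def LineOK (w a b c d : ℕ) : Prop :=
  hf (pt a) (pt a) = 0 ∧ hf (pt w) (pt w) = 0 ∧ pt a ≠ 0 ∧ pt w ≠ 0 ∧ hf (pt a) (pt w) = 0 ∧
    (∀ e : K, pt w ≠ e • pt a) ∧ PointOK a w a .z ∧ PointOK a w b .o ∧ PointOK a w c .w ∧
    PointOK a w d .w2

instance instDecTriOK (a b c : ℕ) : Decidable (TriOK a b c) := inferInstanceAs (Decidable (_ ∧ _))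
instance instDecPointOK (u w x : ℕ) (c : K) : Decidable (PointOK u w x c) :=
  inferInstanceAs (Decidable (∃ _, _))
instance instDecLineOK (w a b c d : ℕ) : Decidable (LineOK w a b c d) :=
  inferInstanceAs (Decidable (_ ∧ _))

theorem tri_check : ∀ i < 45, ∀ t ∈ (levels.getD i ([], [])).1,
    t.1 ≤ i ∧ t.2.1 ≤ i ∧ t.2.2 ≤ i ∧
      TriOK t.1 t.2.1 t.2.2 ∧ TriOK t.2.1 t.2.2 t.1 ∧ TriOK t.2.2 t.1 t.2.1 := by
  decide +kernel

theorem lin_check : ∀ i < 45, ∀ t ∈ (levels.getD i ([], [])).2,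
    t.1 ≤ i ∧ t.2.1 ≤ i ∧ t.2.2.1 ≤ i ∧ t.2.2.2.1 ≤ i ∧ t.2.2.2.2 ≤ i ∧
      LineOK t.1 t.2.1 t.2.2.1 t.2.2.2.1 t.2.2.2.2 := by
  decide +kernel

theorem cover : ∀ b : Fin 4 → K, b ≠ 0 → hf b b = 0 →
    ∃ i < 45, ∃ κ : K, κ ≠ 0 ∧ b = κ • pt i := by
  decide +kernel

theorem pt_iso : ∀ i < 45, pt i ≠ 0 ∧ hf (pt i) (pt i) = 0 := by
  decide +kernel

theorem perps_eq : perps = cands.map fun v => maskOf (fun i => decide (hf (pt i) v = 0)) 45 := by
  decide +kernel

theorem search_result : ∀ m ∈ go levels 0 0, m ∈ perps := by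
  decide +kernel

theorem levels_length : levels.length = 45 := rfl

theorem key3 : ∀ a b c : Bool, (a → b → c) → (b → c → a) → (c → a → b) →
    ([a, b, c].filter id).length ≠ 2 := by decide

theorem key5 : ∀ w a b c d : Bool, (w || a || b || c || d) →
    ((a || b || c || d) → w → (a && b && c && d)) →
    ((a && b || a && c || a && d || b && c || b && d || c && d) → w) →
    ([w, a, b, c, d].filter id).length = 1 ∨ ([w, a, b, c, d].filter id).length = 5 := by decide

/-- A good set in four dimensions is the perpendicular of a vector. -/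
theorem good_four {P : (Fin 4 → K) → Prop} (h : Good P) :
    ∃ v : Fin 4 → K, ∀ b, Iso b → (P b ↔ hf b v = 0) := by
  classical
  let S : ℕ → Bool := fun i => decide (P (pt i))
  have hiso : ∀ i < 45, Iso (pt i) := fun i hi => pt_iso i hi
  have hcnt : ∀ n (l : List ℕ), (∀ j ∈ l, j < n) →
      cnt (maskOf S n) l = ((l.map S).filter id).length := by
    intro n l hl
    rw [cnt, List.filter_map, List.length_map]
    congr 1
    refine List.filter_congr fun j hj => ?_
    simp [testBit_maskOf, hl j hj]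
  have hok : ∀ i (hi : i < levels.length), okLev (maskOf S (0 + i + 1)) levels[i] = true := by
    intro i hi
    have e : levels[i] = levels.getD i ([], []) := (List.getD_eq_getElem _ _ hi).symm
    have hi' : i < 45 := levels_length ▸ hi
    rw [e, okLev, Bool.and_eq_true, List.all_eq_true, List.all_eq_true]
    refine ⟨?_, ?_⟩
    · rintro ⟨a, b, c⟩ ht
      obtain ⟨la, lb, lc, h1, h2, h3⟩ := tri_check i hi' _ ht
      simp only at la lb lc h1 h2 h3 ⊢
      rw [bne_iff_ne, hcnt _ _ (by simp; omega)]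
      have imp : ∀ {x y z : ℕ}, x < 45 → y < 45 → z < 45 → TriOK x y z → S x → S y → S z := by
        intro x y z hx hy hz ⟨_, _, _, _, hn, κ, hκ, he⟩ px py
        have := h.tri (hiso x hx) (hiso y hy) hn (of_decide_eq_true px) (of_decide_eq_true py)
        rw [he, h.smul (hiso z hz) hκ] at this
        exact decide_eq_true this
      exact key3 _ _ _ (imp (by omega) (by omega) (by omega) h1) (imp (by omega) (by omega) (by omega) h2)
        (imp (by omega) (by omega) (by omega) h3)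
    · rintro ⟨w, a, b, c, d⟩ ht
      obtain ⟨lw, la, lb, lc, ld, h1, h2, h3, h4, h5, h6, pa, pb, pc, pd⟩ := lin_check i hi' _ ht
      simp only at lw la lb lc ld h1 h2 h3 h4 h5 h6 pa pb pc pd ⊢
      rw [Bool.or_eq_true, beq_iff_eq, beq_iff_eq, hcnt _ _ (by simp; omega)]
      have huw : OrthPair (pt a) (pt w) := ⟨hiso a (by omega), hiso w (by omega), h5, h6⟩
      have hx : ∀ {x : ℕ} {e : K}, PointOK a w x e → (S x = true ↔ P (pt a + e • pt w)) := by
        intro x e ⟨κ, hκ, he⟩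
        simp only [S, decide_eq_true_eq]
        rw [he, h.smul ((huw.symm cardK).shift cardK e).2.1 hκ]
      have hall : ∀ {e : K}, P (pt a + e • pt w) → P (pt w) → ∀ f : K, P (pt a + f • pt w) := by
        intro e pe pw f
        have h1 : OrthPair (pt a + e • pt w) (pt w) := ((huw.symm cardK).shift cardK e).symm cardK
        have := h.all h1 pe pw (e + f)
        rwa [show pt a + e • pt w + (e + f) • pt w = pt a + f • pt w by
          rw [add_smul, show pt a + e • pt w + (e • pt w + f • pt w) =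
            pt a + f • pt w + (e • pt w + e • pt w) by abel, v_add_self, add_zero]] at this
      have K4cases : ∀ e : K, e = .z ∨ e = .o ∨ e = .w ∨ e = .w2 := by decide
      refine key5 _ _ _ _ _ ?_ ?_ ?_
      · simp only [Bool.or_eq_true]
        rcases h.one huw with h0 | ⟨e, h0⟩
        · simp [S, h0]
        · rcases K4cases e with rfl | rfl | rfl | rfl
          · simp [(hx pa).2 h0]
          · simp [(hx pb).2 h0]
          · simp [(hx pc).2 h0]
          · simp [(hx pd).2 h0]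
      · intro px pw
        have pw' : P (pt w) := of_decide_eq_true pw
        have : ∃ e : K, P (pt a + e • pt w) := by
          simp only [Bool.or_eq_true] at px
          rcases px with ((px | px) | px) | px
          exacts [⟨_, (hx pa).1 px⟩, ⟨_, (hx pb).1 px⟩, ⟨_, (hx pc).1 px⟩, ⟨_, (hx pd).1 px⟩]
        obtain ⟨e, pe⟩ := this
        simp [(hx pa).2 (hall pe pw' _), (hx pb).2 (hall pe pw' _), (hx pc).2 (hall pe pw' _),
          (hx pd).2 (hall pe pw' _)]
      · intro hh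
        refine decide_eq_true ?_
        simp only [Bool.or_eq_true, Bool.and_eq_true, hx pa, hx pb, hx pc, hx pd] at hh
        rcases hh with ((((⟨q, r⟩ | ⟨q, r⟩) | ⟨q, r⟩) | ⟨q, r⟩) | ⟨q, r⟩) | ⟨q, r⟩ <;>
          exact h.two_of_five huw (by decide) q r
  have hmem := search_result _ (mem_go S levels 0 hok)
  rw [perps_eq, levels_length, List.mem_map] at hmem
  obtain ⟨v, -, hv⟩ := hmem
  refine ⟨v, fun b hb => ?_⟩
  obtain ⟨i, hi, κ, hκ, rfl⟩ := cover b hb.1 hb.2
  have h1 := congrArg (fun m => m.testBit i) hv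
  simp only [testBit_maskOf, zero_add, hi, decide_true, Bool.true_and, S] at h1
  rw [h.smul (hiso i hi) hκ, sl, mul_eq_zero, or_iff_right hκ]
  exact (decide_eq_decide.1 h1).symm

end Cfsg.Agent.FischerPolar.Cert
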