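/-
Every member has the perpendicular of a vector as pattern.

Main results: `good_eq_perp`, `Emb.exists_pat`.
-/
import Cfsg.Agent.Lib.FischerPolar.Pattern.Cert
import Cfsg.Agent.Lib.FischerPolar.ExtendEmb

set_option autoImplicit false

namespace Cfsg.Agent.FischerPolar

open Cfsg Cfsg.Agent.ThreeTransSU Cfsg.Agent.U62Cover

variable {m : ℕ}

theorem snoc_map : IsoMap fun x : Fin m → K => (Fin.snoc x 0 : Fin (m + 1) → K) where
  add x y := by
    funext i
    induction i using Fin.lastCases with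
    | last => simp
    | cast i => simp
  smul c x := by
    funext i
    induction i using Fin.lastCases with
    | last => simp
    | cast i => simp
  form x y := by rw [hf_init_last]; simp

theorem hf_three (x y : Fin 3 → K) :
    hf x y = x 0 * y 0 ^ 2 + x 1 * y 1 ^ 2 + x 2 * y 2 ^ 2 := Fin.sum_univ_three fun i => x i * y i ^ 2

theorem hf_four (x y : Fin 4 → K) :
    hf x y = x 0 * y 0 ^ 2 + x 1 * y 1 ^ 2 + x 2 * y 2 ^ 2 + x 3 * y 3 ^ 2 :=
  Fin.sum_univ_four fun i => x i * y i ^ 2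

/-- The isotropic points of the three-dimensional space. -/
def pts3 : List (K × K × K) :=
  [(.o, .o, .z), (.o, .w, .z), (.o, .w2, .z), (.o, .z, .o), (.o, .z, .w), (.o, .z, .w2),
    (.z, .o, .o), (.z, .o, .w), (.z, .o, .w2)]

theorem three_unique' : ∀ a b c d e f : K, (∀ x ∈ pts3,
      x.1 * a ^ 2 + x.2.1 * b ^ 2 + x.2.2 * c ^ 2 = 0 ↔
        x.1 * d ^ 2 + x.2.1 * e ^ 2 + x.2.2 * f ^ 2 = 0) →
    ∃ l : K, l ≠ 0 ∧ a = l * d ∧ b = l * e ∧ c = l * f := by
  decide +kernel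

theorem pts3_iso : ∀ x ∈ pts3,
    ![x.1, x.2.1, x.2.2] ≠ 0 ∧ hf ![x.1, x.2.1, x.2.2] ![x.1, x.2.1, x.2.2] = 0 := by
  decide +kernel

theorem three_unique {w c : Fin 3 → K} (h : ∀ x, Iso x → (hf x w = 0 ↔ hf x c = 0)) :
    ∃ l : K, l ≠ 0 ∧ w = l • c := by
  obtain ⟨l, hl0, h0, h1, h2⟩ := three_unique' (w 0) (w 1) (w 2) (c 0) (c 1) (c 2) fun x hx => by
    have := h ![x.1, x.2.1, x.2.2] (pts3_iso x hx)
    simpa [hf_three] using this
  exact ⟨l, hl0, funext fun i => by fin_cases i <;> assumption⟩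

/-- The map of the four-space on an orthonormal triple and the last axis. -/
def quad (t : Fin 3 → (Fin m → K)) (x : Fin 4 → K) : Fin (m + 1) → K :=
  Fin.snoc (x 0 • t 0 + x 1 • t 1 + x 2 • t 2) (x 3)

theorem hf_comb {t : Fin 3 → (Fin m → K)}
    (ht : Cfsg.Agent.Unitary.Orthonormal (Cfsg.hermForm m K 2) t) (a b : Fin 3 → K) :
    hf (a 0 • t 0 + a 1 • t 1 + a 2 • t 2) (b 0 • t 0 + b 1 • t 1 + b 2 • t 2) = hf a b := by
  have h1 : ∀ i, hf (t i) (t i) = 1 := ht.1
  have h0 : ∀ {i j}, i ≠ j → hf (t i) (t j) = 0 := fun h => ht.2 h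
  simp [hl, hr, sl, sr, h1, h0 (by decide : (0 : Fin 3) ≠ 1), h0 (by decide : (0 : Fin 3) ≠ 2),
    h0 (by decide : (1 : Fin 3) ≠ 2), h0 (by decide : (1 : Fin 3) ≠ 0),
    h0 (by decide : (2 : Fin 3) ≠ 0), h0 (by decide : (2 : Fin 3) ≠ 1), hf_three]
  ring

theorem quad_map {t : Fin 3 → (Fin m → K)}
    (ht : Cfsg.Agent.Unitary.Orthonormal (Cfsg.hermForm m K 2) t) : IsoMap (quad t) where
  add x y := by
    funext i
    induction i using Fin.lastCases with
    | last => simp [quad]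
    | cast i => simp [quad]; ring
  smul c x := by
    funext i
    induction i using Fin.lastCases with
    | last => simp [quad]
    | cast i => simp [quad]; ring
  form x y := by
    rw [quad, quad, hf_init_last, Fin.init_snoc, Fin.init_snoc, Fin.snoc_last, Fin.snoc_last,
      hf_four]
    have := hf_comb ht ![x 0, x 1, x 2] ![y 0, y 1, y 2]
    simp [hf_three] at this
    rw [this]

variable {P : (Fin (m + 1) → K) → Prop}

/-- On the span of an orthonormal triple the last coordinate of the vector is determined. -/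
theorem triple_coord (h : Good P) {v : Fin m → K}
    (hv : ∀ b, Iso b → (P (Fin.snoc b 0) ↔ hf b v = 0)) {t : Fin 3 → (Fin m → K)}
    (ht : Cfsg.Agent.Unitary.Orthonormal (Cfsg.hermForm m K 2) t) :
    ∃ τ : K, ∀ a : Fin 3 → K, hf a a = 1 →
      (P (Fin.snoc (a 0 • t 0 + a 1 • t 1 + a 2 • t 2) 1) ↔
        hf (a 0 • t 0 + a 1 • t 1 + a 2 • t 2) v + τ ^ 2 = 0) := by
  have hq := quad_map ht
  obtain ⟨w, hw⟩ := Cert.good_four (h.comap hq)
  have hdot : ∀ a : Fin 3 → K, hf (a 0 • t 0 + a 1 • t 1 + a 2 • t 2) v =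
      hf a ![hf v (t 0), hf v (t 1), hf v (t 2)] := by
    intro a
    simp [hl, sl, hf_three, ← symm']
  obtain ⟨l, hl0, hl'⟩ := three_unique (w := ![w 0, w 1, w 2])
      (c := ![hf v (t 0), hf v (t 1), hf v (t 2)]) fun a ha => by
    have hx : Iso ![a 0, a 1, a 2, 0] := by
      refine ⟨fun e => ha.1 (funext fun i => ?_), ?_⟩
      · fin_cases i
        exacts [congrFun e 0, congrFun e 1, congrFun e 2]
      · have h2 := ha.2
        rw [hf_three] at h2
        rw [hf_four]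
        simpa using h2
    have h1 := hw _ hx
    have hi : Iso (a 0 • t 0 + a 1 • t 1 + a 2 • t 2) := by
      refine ⟨fun e => ?_, by rw [hf_comb ht, ha.2]⟩
      refine (hq.iso hx).1 ?_
      simp [quad, e]
      funext i
      induction i using Fin.lastCases with
      | last => simp
      | cast i => simp
    have h2 := hv _ hi
    rw [hdot] at h2
    rw [← h2]
    have e : hf ![a 0, a 1, a 2, 0] w = hf a ![w 0, w 1, w 2] := by
      simp [hf_four, hf_three]
    rw [← e, ← h1]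
    simp [quad]
  refine ⟨l⁻¹ * w 3, fun a ha => ?_⟩
  have hx : Iso ![a 0, a 1, a 2, 1] := by
    refine ⟨fun e => one_ne_zero (α := K) (congrFun e 3), ?_⟩
    rw [hf_three] at ha
    rw [hf_four]
    simp [ha, k_add_self]
  have h1 := hw _ hx
  have e0 : w 0 = l * hf v (t 0) := congrFun hl' 0
  have e1 : w 1 = l * hf v (t 1) := congrFun hl' 1
  have e2 : w 2 = l * hf v (t 2) := congrFun hl' 2
  have e3 : w 3 = l * (l⁻¹ * w 3) := by rw [mul_inv_cancel_left₀ hl0]
  rw [show quad t ![a 0, a 1, a 2, 1] = Fin.snoc (a 0 • t 0 + a 1 • t 1 + a 2 • t 2) 1 from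
    by simp [quad]] at h1
  rw [h1, hdot, hf_three, hf_four]
  have : a 0 * w 0 ^ 2 + a 1 * w 1 ^ 2 + a 2 * w 2 ^ 2 + 1 * w 3 ^ 2 = l ^ 2 *
      (a 0 * hf v (t 0) ^ 2 + a 1 * hf v (t 1) ^ 2 + a 2 * hf v (t 2) ^ 2 + (l⁻¹ * w 3) ^ 2) := by
    rw [mul_add (l ^ 2) _ ((l⁻¹ * w 3) ^ 2), ← mul_pow l (l⁻¹ * w 3), mul_inv_cancel_left₀ hl0,
      e0, e1, e2]
    ring
  simp only [Matrix.cons_val_zero, Matrix.cons_val_one, Matrix.cons_val]
  rw [this, mul_eq_zero, or_iff_right (pow_ne_zero 2 hl0)]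

/-- An orthonormal triple starting at `i₀` whose span contains a given unit vector. -/
theorem exists_triple (hm : 4 ≤ m) {i₀ k : Fin m → K} (hi : Unit1 i₀) (hk : Unit1 k) :
    ∃ t : Fin 3 → (Fin m → K), Cfsg.Agent.Unitary.Orthonormal (Cfsg.hermForm m K 2) t ∧
      t 0 = i₀ ∧ ∃ a : Fin 3 → K, hf a a = 1 ∧ k = a 0 • t 0 + a 1 • t 1 + a 2 • t 2 := by
  suffices ∃ t : Fin 3 → (Fin m → K), Cfsg.Agent.Unitary.Orthonormal (Cfsg.hermForm m K 2) t ∧
      t 0 = i₀ ∧ ∃ a : Fin 3 → K, k = a 0 • t 0 + a 1 • t 1 + a 2 • t 2 by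
    obtain ⟨t, ht, h0, a, ha⟩ := this
    refine ⟨t, ht, h0, a, ?_, ha⟩
    rw [← hf_comb ht a a, ← ha]; exact hk
  set c := hf k i₀ with hc
  set k' := k + c • i₀ with hk'
  have hki : hf k' i₀ = 0 := by rw [hk', hl, sl, show hf i₀ i₀ = 1 from hi, mul_one, k_add_self]
  have back : k = c • i₀ + k' := by rw [hk', add_comm k, ← add_assoc, v_add_self, zero_add]
  have ext : ∀ {n : ℕ} (b : Fin n → (Fin m → K)), n ≤ 3 →
      Cfsg.Agent.Unitary.Orthonormal (Cfsg.hermForm m K 2) b →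
      ∃ t : Fin 3 → (Fin m → K), Cfsg.Agent.Unitary.Orthonormal (Cfsg.hermForm m K 2) t ∧
        ∀ (i : Fin n) (h : i.val < 3), t ⟨i, h⟩ = b i := by
    intro n b hn hb
    obtain ⟨t, ht, htb⟩ := Cfsg.Agent.Unitary.exists_orthonormal_extend (q := 2) (card_sq cardK)
      (herm cardK) (Cfsg.Agent.Unitary.hermForm_nondeg (card_sq cardK) m) hb hn
      (by rw [Module.finrank_fin_fun]; omega)
    exact ⟨t, ht, fun i _ => htb i⟩
  rcases self_cases k' with h0 | h1
  · by_cases hz : k' = 0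
    · obtain ⟨t, ht, htb⟩ := ext ![i₀] (by omega)
        ⟨fun i => by fin_cases i; exact hi, fun i j hij => absurd (Subsingleton.elim i j) hij⟩
      have ht0 : t 0 = i₀ := htb 0 (by omega)
      refine ⟨t, ht, ht0, ![c, 0, 0], ?_⟩
      rw [ht0, back, hz]; simp
    · obtain ⟨z, hz', hzi⟩ := exists_partner cardK (b := ![i₀])
        (LinearIndependent.of_subsingleton 0 hi.ne_zero) ⟨hz, h0⟩
        (fun i => by fin_cases i; exact hki) (fun hmem => by
          rw [Matrix.range_cons, Matrix.range_empty, Set.union_empty,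
            Submodule.mem_span_singleton] at hmem
          obtain ⟨d, hd⟩ := hmem
          rw [← hd, sl, show hf i₀ i₀ = 1 from hi, mul_one] at hki
          exact hz (by rw [← hd, hki, zero_smul]))
      obtain ⟨ω, -, hω⟩ := Cfsg.Agent.U62Cover.exists_omega cardK
      have hpo := pair_orthonormal cardK hω ⟨hz, h0⟩ hz'
      have hcu : ∀ d : K, hf (d • k' + z) i₀ = 0 := fun d => by
        rw [hl, sl, hki, show hf z i₀ = 0 from hzi 0, mul_zero, add_zero]
      refine ⟨![i₀, ω • k' + z, ω ^ 2 • k' + z], orth_three hi (hpo.1 0) (hpo.1 1) (z_symm (hcu ω))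
        (z_symm (hcu (ω ^ 2))) (hpo.2 (by decide : (0 : Fin 2) ≠ 1)), rfl, ![c, 1, 1], ?_⟩
      simp only [Matrix.cons_val_zero, Matrix.cons_val_one, Matrix.cons_val, one_smul]
      rw [show c • i₀ + (ω • k' + z) + (ω ^ 2 • k' + z) =
        c • i₀ + ((ω • k' + ω ^ 2 • k') + (z + z)) by abel, v_add_self, add_zero, ← add_smul, hω,
        ← add_assoc ω, k_add_self, zero_add, one_smul]
      exact back
  · obtain ⟨t, ht, htb⟩ := ext ![i₀, k'] (by omega)
      ⟨fun i => by fin_cases i; exacts [hi, h1], fun i j hij => by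
        fin_cases i <;> fin_cases j <;> simp only [ne_eq, not_true_eq_false] at hij ⊢ <;>
          simp [hki, z_symm hki]⟩
    have ht0 : t 0 = i₀ := htb 0 (by omega)
    refine ⟨t, ht, ht0, ![c, 1, 0], ?_⟩
    rw [show t 1 = k' from htb 1 (by simp), ht0]
    simpa using back

theorem coord_unique : ∀ d τ κ : K, d ≠ 0 →
    (∀ l : K, l ≠ 0 → (l * d + τ ^ 2 = 0 ↔ l * d + κ ^ 2 = 0)) → τ = κ := by
  decide +kernel

theorem good_step (hm : 4 ≤ m) (h : Good P) {v : Fin m → K}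
    (hv : ∀ b, Iso b → (P (Fin.snoc b 0) ↔ hf b v = 0)) :
    ∃ κ : K, ∀ b, Iso b → (P b ↔ hf b (Fin.snoc v κ) = 0) := by
  classical
  suffices ∃ κ : K, ∀ k, Unit1 k → (P (Fin.snoc k 1) ↔ hf k v + κ ^ 2 = 0) by
    obtain ⟨κ, hκ⟩ := this
    refine ⟨κ, fun b hb => ?_⟩
    by_cases h0 : b (Fin.last m) = 0
    · have hb' : (Fin.snoc (Fin.init b) 0 : Fin (m + 1) → K) = b := by
        rw [← h0, Fin.snoc_init_self]
      have hi : Iso (Fin.init b) := by
        refine ⟨fun e => hb.1 ?_, ?_⟩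
        · rw [← hb', e]; exact snoc_map.map_zero
        · have := hb.2; rwa [hf_init_last, h0, zero_mul, add_zero] at this
      rw [hf_init_last, h0, zero_mul, add_zero, Fin.init_snoc, ← hv _ hi, hb']
    · set k := (b (Fin.last m))⁻¹ • Fin.init b with hk
      have hku : Unit1 k := by
        refine unit_smul ?_ (inv_ne_zero h0)
        have := hb.2
        rw [hf_init_last, k_cube _ h0] at this
        have key : ∀ a : K, a + 1 = 0 → a = 1 := by decide +kernel
        exact key _ this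
      have hb' : (Fin.snoc k 1 : Fin (m + 1) → K) = (b (Fin.last m))⁻¹ • b := by
        funext i
        induction i using Fin.lastCases with
        | last => simp [h0]
        | cast i => simp [hk, Fin.init]
      rw [← h.smul hb (inv_ne_zero h0), ← hb', hκ k hku, hk, sl, hf_init_last, Fin.init_snoc,
        Fin.snoc_last]
      have e : (b (Fin.last m))⁻¹ * hf (Fin.init b) v + κ ^ 2 =
          (b (Fin.last m))⁻¹ * (hf (Fin.init b) v + b (Fin.last m) * κ ^ 2) := by
        rw [mul_add, inv_mul_cancel_left₀ h0]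
      rw [e, mul_eq_zero, or_iff_right (inv_ne_zero h0)]
  obtain ⟨w, hw⟩ := Cfsg.Agent.Unitary.exists_orthonormalBasis (q := 2) (card_sq cardK)
    (herm cardK) (Cfsg.Agent.Unitary.hermForm_nondeg (card_sq cardK) m)
  obtain ⟨i₀, hi₀, hcase⟩ : ∃ i₀ : Fin m → K, Unit1 i₀ ∧ (hf i₀ v ≠ 0 ∨ v = 0) := by
    by_cases hh : ∃ i, hf (w i) v ≠ 0
    · obtain ⟨i, hi⟩ := hh
      exact ⟨w i, hw.1 i, Or.inl hi⟩
    · refine ⟨w ⟨0, by rw [Module.finrank_fin_fun]; omega⟩, hw.1 _, Or.inr ?_⟩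
      push Not at hh
      rw [hw.eq_sum_of_card (herm cardK) (by simp) v]
      exact Finset.sum_eq_zero fun i _ => by
        rw [show Cfsg.hermForm m K 2 v (w i) = 0 from z_symm (hh i), zero_smul]
  obtain ⟨t₀, ht₀, ht₀0, -, -, -⟩ := exists_triple hm hi₀ hi₀
  obtain ⟨κ, hκ⟩ := triple_coord h hv ht₀
  refine ⟨κ, fun k hk => ?_⟩
  obtain ⟨t, ht, ht0, a, ha, hka⟩ := exists_triple hm hi₀ hk
  obtain ⟨τ, hτ⟩ := triple_coord h hv ht
  have hax : ∀ l : K, l ≠ 0 → hf (![l, 0, 0] : Fin 3 → K) ![l, 0, 0] = 1 := fun l hl0 => by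
    rw [hf_three]; simpa using k_cube l hl0
  have hcmp : ∀ l : K, l ≠ 0 → (l * hf i₀ v + τ ^ 2 = 0 ↔ l * hf i₀ v + κ ^ 2 = 0) := fun l hl0 => by
    have h1 := hτ _ (hax l hl0)
    have h2 := hκ _ (hax l hl0)
    simp [ht0, ht₀0, sl] at h1 h2
    rw [← h1, h2]
  rw [hka, hτ a ha]
  rcases hcase with h0 | h0
  · rw [coord_unique _ τ κ h0 hcmp]
  · have hz : ∀ y, hf y v = 0 := fun y => by rw [h0, zr]
    simpa [hz] using hcmp 1 one_ne_zero

/-- A good set is the perpendicular of a vector. -/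
theorem good_eq_perp : ∀ (m : ℕ), 4 ≤ m → ∀ P : (Fin m → K) → Prop, Good P →
    ∃ v : Fin m → K, ∀ b, Iso b → (P b ↔ hf b v = 0) := by
  intro m hm
  induction m, hm using Nat.le_induction with
  | base => exact fun P h => Cert.good_four h
  | succ m hm ih =>
    intro P h
    obtain ⟨v, hv⟩ := ih _ (h.comap snoc_map)
    obtain ⟨κ, hκ⟩ := good_step hm h hv
    exact ⟨_, hκ⟩

variable {G : Type*} [Group G] {D : Set G} {ψ : (Fin m → K) → G}

/-- Every member has a pattern. -/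
theorem Emb.exists_pat [Finite G] (Q : Polar D 5) (E : Emb D m ψ) {e : G} (he : e ∈ D) :
    ∃ v, Pat ψ e v :=
  good_eq_perp m E.four _ (E.good_pat Q he)

end Cfsg.Agent.FischerPolar
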